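import Groth.Agent.ModSiteLib.CoprodQc
import Groth.Agent.NilAffineLib.Basic
import Groth.Agent.OmegaAffLib.StalkCrit
import Groth.Agent.QCohLib.Local
import Mathlib.Algebra.Category.ModuleCat.Sheaf.PullbackFree
import Mathlib.CategoryTheory.Sites.Over

/-!
# Direct images of modules along a continuous map with affine preimages, over an open
-/

set_option autoImplicit false
set_option linter.style.haveILetI false
set_option backward.isDefEq.respectTransparency false
set_option backward.isDefEq.respectTransparency.types false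

universe u

open CategoryTheory CategoryTheory.Limits AlgebraicGeometry TopologicalSpace Opposite
open Groth.Agent

noncomputable section

namespace CartModLib

variable {Tc U : Scheme.{u}} (g : Tc.carrier ⟶ U.carrier)

/-- `g_* O` as a sheaf of commutative rings. -/
abbrev RC : Sheaf (Opens.grothendieckTopology U) CommRingCat.{u} :=
  ((Opens.map g).sheafPushforwardContinuous CommRingCat.{u} (Opens.grothendieckTopology U)
    (Opens.grothendieckTopology Tc)).obj Tc.sheaf

/-- `g_* O`. -/
abbrev R : Sheaf (Opens.grothendieckTopology U) RingCat.{u} :=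
  ((Opens.map g).sheafPushforwardContinuous RingCat.{u} (Opens.grothendieckTopology U)
    (Opens.grothendieckTopology Tc)).obj Tc.ringCatSheaf

/-- `v_*`. -/
abbrev vP : SheafOfModules.{u} Tc.ringCatSheaf ⥤ SheafOfModules.{u} (R g) :=
  SheafOfModules.pushforward (F := Opens.map g) (R := Tc.ringCatSheaf) (𝟙 (R g))

/-- The preimage. -/
abbrev pre (U₀ : U.Opens) : Tc.Opens := (Opens.map g).obj U₀

variable (U₀ : U.Opens)

/-- The functor on opens below `U₀`. -/
abbrev G₀ : Over U₀ ⥤ Over (pre g U₀) := Over.post (X := U₀) (Opens.map g)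

theorem compatiblePreserving_G₀ :
    CompatiblePreserving ((Opens.grothendieckTopology Tc).over (pre g U₀)) (G₀ g U₀) := by
  refine ⟨fun ℱ Z T x h Y₁ Y₂ W f₁ f₂ g₁ g₂ hg₁ hg₂ eq => ?_⟩
  let A : Over U₀ := Over.mk (homOfLE (inf_le_left.trans (leOfHom Y₁.hom)) : Y₁.left ⊓ Y₂.left ⟶ U₀)
  let a₁ : A ⟶ Y₁ := Over.homMk (homOfLE inf_le_left) (Subsingleton.elim _ _)
  let a₂ : A ⟶ Y₂ := Over.homMk (homOfLE inf_le_right) (Subsingleton.elim _ _)
  let k : W ⟶ (G₀ g U₀).obj A :=
    Over.homMk (homOfLE (fun z hz => ⟨leOfHom f₁.left hz, leOfHom f₂.left hz⟩)) (Subsingleton.elim _ _)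
  have hk₁ : f₁ = k ≫ (G₀ g U₀).map a₁ := Over.OverMorphism.ext (Subsingleton.elim _ _)
  have hk₂ : f₂ = k ≫ (G₀ g U₀).map a₂ := Over.OverMorphism.ext (Subsingleton.elim _ _)
  have hgg : a₁ ≫ g₁ = a₂ ≫ g₂ := Over.OverMorphism.ext (Subsingleton.elim _ _)
  have := h a₁ a₂ hg₁ hg₂ hgg
  simp only [hk₁, hk₂, op_comp, Functor.map_comp, ConcreteCategory.comp_apply]
  exact congrArg (ℱ.obj.map k.op) this

instance : (G₀ g U₀).IsContinuous ((Opens.grothendieckTopology U).over U₀)
    ((Opens.grothendieckTopology Tc).over (pre g U₀)) :=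
  Functor.isContinuous_of_coverPreserving (compatiblePreserving_G₀ g U₀)
    (CoverPreserving.overPost U₀ (coverPreserving_opens_map g))

instance : (G₀ g U₀).Final := by
  refine ⟨fun d => ?_⟩
  let t : StructuredArrow d (G₀ g U₀) :=
    StructuredArrow.mk (Y := Over.mk (𝟙 U₀)) (Over.homMk d.hom (Subsingleton.elim _ _))
  haveI : Nonempty (StructuredArrow d (G₀ g U₀)) := ⟨t⟩
  refine zigzag_isConnected fun a b => ?_
  have h : ∀ a : StructuredArrow d (G₀ g U₀), Zigzag a t := fun a =>
    Zigzag.of_hom (StructuredArrow.homMk (Over.homMk a.right.hom (Subsingleton.elim _ _))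
      (Over.OverMorphism.ext (Subsingleton.elim _ _)))
  exact (h a).trans (Zigzag.symm (h b))

/-- `R` over `U₀`. -/
abbrev R₀ : Sheaf ((Opens.grothendieckTopology U).over U₀) RingCat.{u} := (R g).over U₀

/-- `O` over the preimage. -/
abbrev O₀ : Sheaf ((Opens.grothendieckTopology Tc).over (pre g U₀)) RingCat.{u} :=
  Tc.ringCatSheaf.over (pre g U₀)

/-- `v_*` over `U₀`. -/
abbrev v₀ : SheafOfModules.{u} (O₀ g U₀) ⥤ SheafOfModules.{u} (R₀ g U₀) :=
  SheafOfModules.pushforward (F := G₀ g U₀) (R := O₀ g U₀) (S := R₀ g U₀) (𝟙 (R₀ g U₀))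

theorem vP_over (M : SheafOfModules.{u} Tc.ringCatSheaf) :
    ((vP g).obj M).over U₀ = (v₀ g U₀).obj (M.over (pre g U₀)) := rfl

/-! ### Locally bijective morphisms -/

section LocBij

variable {C : Type u} [SmallCategory C] {J : GrothendieckTopology C} {S : Sheaf J RingCat.{u}}

theorem isIso_of_locBij {A B : SheafOfModules.{u} S} (φ : A ⟶ B)
    (hinj : ∀ (W : C) (x : A.val.obj (op W)), φ.val.app (op W) x = 0 → x = 0)
    (hsurj : ∀ (W : C) (y : B.val.obj (op W)), ∃ T ∈ J W, ∀ ⦃W' : C⦄ (h : W' ⟶ W), T h →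
      ∃ x : A.val.obj (op W'), φ.val.app (op W') x = B.val.map h.op y) : IsIso φ := by
  let ψ := (SheafOfModules.toSheaf S).map φ
  haveI : Presheaf.IsLocallyInjective J ψ.hom :=
    Presheaf.isLocallyInjective_of_injective J ψ.hom fun W => by
      rw [injective_iff_map_eq_zero]
      exact fun x hx => hinj W.unop x hx
  haveI : Presheaf.IsLocallySurjective J ψ.hom := ⟨fun {W} s => by
    obtain ⟨T, hT, h⟩ := hsurj W s
    refine J.superset_covering (fun W' f hf => ?_) hT
    exact h f hf⟩
  haveI : IsIso ψ := (Sheaf.isLocallyBijective_iff_isIso ψ).1 ⟨‹_›, ‹_›⟩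
  exact isIso_of_reflects_iso φ (SheafOfModules.toSheaf S)

end LocBij

/-! ### Quasi-compact objects over an open -/

theorem qcSep_over {V : Tc.Opens} (A : Over V) (hA : IsCompact (A.left : Set Tc)) :
    CoprodQcLib.QcSep ((Opens.grothendieckTopology Tc).over V) (Tc.sheaf.over V) A := by
  classical
  intro S hS
  rw [GrothendieckTopology.mem_over_iff] at hS
  choose W hle hSW hxW using fun x : A.left => hS x.1 x.2
  obtain ⟨t, ht⟩ := hA.elim_finite_subcover (fun x : A.left => (W x : Set Tc)) (fun x => (W x).isOpen)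
    (fun z hz => Set.mem_iUnion.mpr ⟨⟨z, hz⟩, hxW ⟨z, hz⟩⟩)
  refine ⟨ULift.{u} t, inferInstance, fun k => Over.mk (hle k.down.1 ≫ A.hom),
    fun k => Over.homMk (hle k.down.1) rfl, fun k => ?_, ?_⟩
  · have := hSW k.down.1
    rw [Sieve.overEquiv_iff] at this
    exact this
  · intro M x y h
    have hcov : Sieve.ofArrows (fun k : ULift.{u} t => Over.mk (hle k.down.1 ≫ A.hom))
        (fun k => Over.homMk (hle k.down.1) rfl) ∈ (Opens.grothendieckTopology Tc).over V A := by
      rw [GrothendieckTopology.mem_over_iff]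
      intro z hz
      obtain ⟨k, hk, hzk⟩ := Set.mem_iUnion₂.mp (ht hz)
      exact ⟨W k, hle k, (Sieve.overEquiv_iff _ _).mpr
        (Sieve.ofArrows_mk _ _ (⟨⟨k, hk⟩⟩ : ULift.{u} t)), hzk⟩
    have hsep : Presieve.IsSeparated ((Opens.grothendieckTopology Tc).over V)
        (M.val.presheaf ⋙ forget AddCommGrpCat.{u}) :=
      ((isSheaf_iff_isSheaf_of_type _ _).1
        ((Presheaf.isSheaf_iff_isSheaf_forget _ M.val.presheaf (forget AddCommGrpCat.{u})).1
          M.isSheaf)).isSeparated
    refine (hsep _ hcov).ext fun A' f hf => ?_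
    obtain ⟨_, a, _, ⟨k⟩, rfl⟩ := hf
    exact ((PresheafOfModules.map_comp_apply M.val _ a.op x).trans (congrArg (M.val.map a.op) (h k))).trans
      (PresheafOfModules.map_comp_apply M.val _ a.op y).symm

end CartModLib
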