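import Groth.Agent.CartModLib.Base

/-!
# Exactness and coproducts for direct images over an open
-/

set_option autoImplicit false
set_option linter.style.haveILetI false
set_option backward.isDefEq.respectTransparency false
set_option backward.isDefEq.respectTransparency.types false

universe u

open CategoryTheory CategoryTheory.Limits AlgebraicGeometry TopologicalSpace Opposite
open Groth.Agent

noncomputable section

namespace CartModLib

variable {Tc U : Scheme.{u}} (g : Tc.carrier ⟶ U.carrier) (U₀ : U.Opens)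

section Sep

variable {C : Type u} [SmallCategory C] {J : GrothendieckTopology C} {S : Sheaf J RingCat.{u}}

theorem eq_zero_of_cover (M : SheafOfModules.{u} S) {W : C} (x : M.val.obj (op W)) {T : Sieve W}
    (hT : T ∈ J W) (h : ∀ ⦃W' : C⦄ (f : W' ⟶ W), T f → M.val.map f.op x = 0) : x = 0 := by
  have hsep : Presieve.IsSeparated J (M.val.presheaf ⋙ forget AddCommGrpCat.{u}) :=
    ((isSheaf_iff_isSheaf_of_type _ _).1
      ((Presheaf.isSheaf_iff_isSheaf_forget _ M.val.presheaf (forget AddCommGrpCat.{u})).1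
        M.isSheaf)).isSeparated
  refine (hsep _ hT).ext fun W' f hf => ?_
  exact (h f hf).trans (map_zero (M.val.map f.op).hom).symm

end Sep

/-- The affine opens below an open, as a sieve. -/
def affSieve (A : Over U₀) : Sieve A where
  arrows A' _ := ∃ B : U.Opens, IsAffineOpen B ∧ A'.left ≤ B ∧ B ≤ A.left
  downward_closed := by
    rintro A' A'' f ⟨B, hB, h1, h2⟩ k
    exact ⟨B, hB, (leOfHom k.left).trans h1, h2⟩

theorem affSieve_mem (A : Over U₀) : affSieve U₀ A ∈ (Opens.grothendieckTopology U).over U₀ A := by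
  rw [GrothendieckTopology.mem_over_iff]
  intro z hz
  obtain ⟨B, hB, hzB, hle⟩ := exists_isAffineOpen_mem_and_subset (show z ∈ A.left from hz)
  exact ⟨B, homOfLE hle, (Sieve.overEquiv_iff _ _).mpr ⟨B, hB, le_rfl, hle⟩, hzB⟩

/-! ### Coproducts -/

/-- The identification of the units. -/
abbrev ηu : SheafOfModules.unit (R₀ g U₀) ⟶ (v₀ g U₀).obj (SheafOfModules.unit (O₀ g U₀)) :=
  SheafOfModules.unitToPushforwardObjUnit (F := G₀ g U₀) (R := O₀ g U₀) (S := R₀ g U₀) (𝟙 (R₀ g U₀))

/-- `free ⟶ v_* free`. -/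
abbrev cFree (I : Type u) :
    SheafOfModules.free (R := R₀ g U₀) I ⟶ (v₀ g U₀).obj (SheafOfModules.free (R := O₀ g U₀) I) :=
  SheafOfModules.mapFree (v₀ g U₀) I (ηu g U₀)

theorem cFree_ι (I : Type u) (i : I) (A : Over U₀)
    (a : (SheafOfModules.unit (R₀ g U₀)).val.obj (op A)) :
    (cFree g U₀ I).val.app (op A) ((SheafOfModules.ιFree i).val.app (op A) a) =
      (SheafOfModules.ιFree (R := O₀ g U₀) i).val.app (op ((G₀ g U₀).obj A))
        (show (SheafOfModules.unit (O₀ g U₀)).val.obj (op ((G₀ g U₀).obj A)) from a) :=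
  ConcreteCategory.congr_hom (congrArg (fun φ : SheafOfModules.unit (R₀ g U₀) ⟶
      (v₀ g U₀).obj (SheafOfModules.free (R := O₀ g U₀) I) => φ.val.app (op A))
    (SheafOfModules.ιFree_mapFree (v₀ g U₀) I (ηu g U₀) i)) a

theorem isIso_cFree (haff : ∀ W : U.Opens, IsAffineOpen W → IsAffineOpen (pre g W)) (I : Type u) :
    IsIso (cFree g U₀ I) := by
  classical
  let fR : I → ModSite.Mod ((RC g).over U₀) := fun _ => ModSite.unit _
  let fO : I → ModSite.Mod (Tc.sheaf.over (pre g U₀)) := fun _ => ModSite.unit _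
  refine isIso_of_locBij _ (fun A y hy => ?_) (fun A x => ?_)
  · obtain ⟨T, hT, h⟩ := CoprodQcLib.loc_fixed fR A y
    refine eq_zero_of_cover _ y hT fun A' k hk => ?_
    obtain ⟨s, hs⟩ := h k hk
    let a : I → (SheafOfModules.unit (R₀ g U₀)).val.obj (op A') := fun i =>
      (CoprodQcLib.prj fR i).val.app (op A') ((∐ fR).val.map k.op y)
    have hy' : (cFree g U₀ I).val.app (op A') ((SheafOfModules.free (R := R₀ g U₀) I).val.map k.op y) = 0 := by
      refine (PresheafOfModules.naturality_apply (cFree g U₀ I).val k.op y).trans ?_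
      rw [hy]
      exact map_zero _
    have e₁ : (SheafOfModules.free (R := R₀ g U₀) I).val.map k.op y =
        ∑ i ∈ s, (SheafOfModules.ιFree (R := R₀ g U₀) i).val.app (op A') (a i) :=
      hs.symm.trans (CoprodQcLib.keep_apply fR s A' _)
    rw [e₁, map_sum] at hy'
    simp only [cFree_ι] at hy'
    have ha : ∀ j ∈ s, a j = 0 := fun j hj =>
      ((CoprodQcLib.prj_sum fO (V := (G₀ g U₀).obj A') s a hj).symm.trans
        (congrArg _ hy')).trans (map_zero _)
    exact e₁.trans (Finset.sum_eq_zero fun i hi => (congrArg _ (ha i hi)).trans (map_zero _))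
  · refine ⟨affSieve U₀ A, affSieve_mem U₀ A, fun A' k hk => ?_⟩
    obtain ⟨B, hB, hAB, hBA⟩ := hk
    let B₀ : Over U₀ := Over.mk (homOfLE (hBA.trans (leOfHom A.hom)))
    let b : B₀ ⟶ A := Over.homMk (homOfLE hBA) (Subsingleton.elim _ _)
    let a' : A' ⟶ B₀ := Over.homMk (homOfLE hAB) (Subsingleton.elim _ _)
    have hk' : k = a' ≫ b := Over.OverMorphism.ext (Subsingleton.elim _ _)
    let xB : (∐ fO).val.obj (op ((G₀ g U₀).obj B₀)) :=
      (SheafOfModules.free (R := O₀ g U₀) I).val.map ((G₀ g U₀).map b).op x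
    obtain ⟨s, hs⟩ := CoprodQcLib.exists_fixed fO
      (qcSep_over ((G₀ g U₀).obj B₀) (haff B hB).isCompact) xB
    let yB : (SheafOfModules.free (R := R₀ g U₀) I).val.obj (op B₀) :=
      ∑ i ∈ s, (SheafOfModules.ιFree (R := R₀ g U₀) i).val.app (op B₀)
        ((CoprodQcLib.prj fO i).val.app (op ((G₀ g U₀).obj B₀)) xB)
    refine ⟨(SheafOfModules.free (R := R₀ g U₀) I).val.map a'.op yB, ?_⟩
    refine (PresheafOfModules.naturality_apply (cFree g U₀ I).val a'.op yB).trans ?_
    have e₂ : (cFree g U₀ I).val.app (op B₀) yB = xB := by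
      rw [map_sum]
      simp only [cFree_ι]
      exact (CoprodQcLib.keep_apply fO s ((G₀ g U₀).obj B₀) xB).symm.trans hs
    rw [e₂, hk']
    exact (PresheafOfModules.map_comp_apply ((v₀ g U₀).obj (SheafOfModules.free (R := O₀ g U₀) I)).val
      b.op a'.op x).symm

/-! ### Quasi-coherent modules over the preimage -/

/-- The transport to the open subscheme. -/
abbrev toSch : SheafOfModules.{u} (O₀ g U₀) ⥤ (pre g U₀ : Scheme.{u}).Modules :=
  (Scheme.Modules.overEquiv (pre g U₀)).functor

/-- Quasi-coherence over the preimage. -/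
def Qc (Z : SheafOfModules.{u} (O₀ g U₀)) : Prop := Coh.IsQCoh ((toSch g U₀).obj Z)

theorem qc_of_isQCoh (M : SheafOfModules.{u} Tc.ringCatSheaf) [M.IsQuasicoherent] :
    Qc g U₀ (M.over (pre g U₀)) := by
  haveI : Coh.IsQCoh (show Tc.Modules from M) := ‹M.IsQuasicoherent›
  haveI := KFlatLib.isQCoh_pullback (pre g U₀).ι (show Tc.Modules from M)
  exact QCohLib.isQCoh_of_iso
    (((Scheme.Modules.restrictFunctorIsoPullback (pre g U₀).ι).app (show Tc.Modules from M)).symm ≪≫
      ((Scheme.Modules.overFunctorEquiv (pre g U₀)).app (show Tc.Modules from M)).symm)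

theorem qc_of_presentation {Z : SheafOfModules.{u} (O₀ g U₀)} (P : Z.Presentation) : Qc g U₀ Z :=
  (P.map (toSch g U₀) ((pre g U₀).sheafOfModulesEquivOverUnit Tc.ringCatSheaf).symm).isQuasicoherent

theorem qc_kernel {A B : SheafOfModules.{u} (O₀ g U₀)} (f : A ⟶ B) (hA : Qc g U₀ A) (hB : Qc g U₀ B) :
    Qc g U₀ (kernel f) := by
  haveI : Coh.IsQCoh ((toSch g U₀).obj A) := hA
  haveI : Coh.IsQCoh ((toSch g U₀).obj B) := hB
  haveI := QCohLib.isQCoh_kernel ((toSch g U₀).map f)
  exact QCohLib.isQCoh_of_iso (PreservesKernel.iso (toSch g U₀) f).symm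

theorem epi_v₀_map (haff : ∀ W : U.Opens, IsAffineOpen W → IsAffineOpen (pre g W))
    {A B : SheafOfModules.{u} (O₀ g U₀)} (a : A ⟶ B) [Epi a] (hA : Qc g U₀ A) (hB : Qc g U₀ B) :
    Epi ((v₀ g U₀).map a) := by
  haveI : Coh.IsQCoh ((toSch g U₀).obj A) := hA
  haveI : Coh.IsQCoh ((toSch g U₀).obj B) := hB
  haveI : Epi ((toSch g U₀).map a) := inferInstance
  haveI : Sheaf.IsLocallySurjective ((SheafOfModules.toSheaf _).map ((v₀ g U₀).map a)) := by
    constructor
    intro W y
    refine GrothendieckTopology.superset_covering _ (fun A' k hk => ?_) (affSieve_mem U₀ W)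
    obtain ⟨C, hC, hAC, hCW⟩ := hk
    let C₀ : Over U₀ := Over.mk (homOfLE (hCW.trans (leOfHom W.hom)))
    let c : C₀ ⟶ W := Over.homMk (homOfLE hCW) (Subsingleton.elim _ _)
    let a' : A' ⟶ C₀ := Over.homMk (homOfLE hAC) (Subsingleton.elim _ _)
    have hk' : k = a' ≫ c := Over.OverMorphism.ext (Subsingleton.elim _ _)
    let V := pre g U₀
    let O' : (V : Scheme.{u}).Opens := V.ι ⁻¹ᵁ pre g C
    have hO' : IsAffineOpen O' := (haff C hC).preimage_of_isOpenImmersion V.ι (by
      rw [Scheme.Opens.opensRange_ι]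
      exact fun z hz => leOfHom C₀.hom hz)
    let e : (Opens.overEquivalence V).inverse.obj O' ≅ (G₀ g U₀).obj C₀ :=
      ((Opens.overEquivalence V).unitIso.app ((G₀ g U₀).obj C₀)).symm
    let yC : B.val.obj (op ((G₀ g U₀).obj C₀)) := B.val.map ((G₀ g U₀).map c).op y
    obtain ⟨x, hx⟩ := OmegaAffLib.surjective_app_of_epi ((toSch g U₀).map a) hO'
      (show Γ((toSch g U₀).obj B, O') from B.val.map e.hom.op yC)
    have h₁ : a.val.app (op ((G₀ g U₀).obj C₀)) (A.val.map e.inv.op x) = yC := by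
      rw [PresheafOfModules.naturality_apply]
      refine (congrArg (B.val.map e.inv.op) hx).trans ?_
      refine (PresheafOfModules.map_comp_apply B.val e.hom.op e.inv.op yC).symm.trans ?_
      rw [← op_comp, e.inv_hom_id, op_id, B.val.map_id]
      rfl
    refine ⟨A.val.map ((G₀ g U₀).map a').op (A.val.map e.inv.op x), ?_⟩
    refine (PresheafOfModules.naturality_apply a.val ((G₀ g U₀).map a').op _).trans ?_
    rw [h₁, hk']
    exact (PresheafOfModules.map_comp_apply ((v₀ g U₀).obj B).val c.op a'.op y).symm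
  haveI : Epi ((SheafOfModules.toSheaf _).map ((v₀ g U₀).map a)) := Sheaf.epi_of_isLocallySurjective _
  exact (SheafOfModules.toSheaf _).epi_of_epi_map inferInstance

/-- `v_*` preserves cokernels of maps between quasi-coherent modules. -/
def isColimit_v₀ (haff : ∀ W : U.Opens, IsAffineOpen W → IsAffineOpen (pre g W))
    {A B Z : SheafOfModules.{u} (O₀ g U₀)} (f : A ⟶ B) (π : B ⟶ Z) (w : f ≫ π = 0)
    (h : IsColimit (CokernelCofork.ofπ π w)) (hA : Qc g U₀ A) (hB : Qc g U₀ B) (hZ : Qc g U₀ Z) :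
    IsColimit (CokernelCofork.ofπ ((v₀ g U₀).map π)
      (show (v₀ g U₀).map f ≫ (v₀ g U₀).map π = 0 by rw [← Functor.map_comp, w, Functor.map_zero])) := by
  have hS : (ShortComplex.mk f π w).Exact := ShortComplex.exact_of_g_is_cokernel _ h
  haveI : Epi π := epi_of_isColimit_cofork h
  haveI : Epi (kernel.lift π f w) := (ShortComplex.exact_iff_epi_kernel_lift _).1 hS
  haveI := epi_v₀_map g U₀ haff π hB hZ
  haveI := epi_v₀_map g U₀ haff (kernel.lift π f w) hA (qc_kernel g U₀ π hB hZ)
  let T := ShortComplex.mk ((v₀ g U₀).map f) ((v₀ g U₀).map π)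
    (by rw [← Functor.map_comp, w, Functor.map_zero])
  have hT : T.Exact := by
    rw [ShortComplex.exact_iff_epi_kernel_lift]
    have e : kernel.lift T.g T.f T.zero =
        (v₀ g U₀).map (kernel.lift π f w) ≫ (PreservesKernel.iso (v₀ g U₀) π).hom := by
      refine equalizer.hom_ext ?_
      simp [T, ← Functor.map_comp]
    rw [e]
    exact inferInstanceAs (Epi (_ ≫ _))
  haveI : Epi T.g := ‹Epi ((v₀ g U₀).map π)›
  exact hT.gIsCokernel

end CartModLib
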