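import Groth.Agent.CartModLib.Exact
import Groth.Agent.CohExtLib.Subobj

/-!
# The adjunction `v^* ⊣ v_*` on quasi-coherent modules
-/

set_option autoImplicit false
set_option linter.style.haveILetI false
set_option backward.isDefEq.respectTransparency false
set_option backward.isDefEq.respectTransparency.types false

universe u

open CategoryTheory CategoryTheory.Limits AlgebraicGeometry TopologicalSpace Opposite
open Groth.Agent

noncomputable section

namespace CartModLib

variable {Tc U : Scheme.{u}} (g : Tc.carrier ⟶ U.carrier) (U₀ : U.Opens)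

/-- The adjunction `v^* ⊣ v_*`. -/
abbrev adjv := SheafOfModules.pullbackPushforwardAdjunction (F := Opens.map g) (R := Tc.ringCatSheaf) (𝟙 (R g))

/-- `v^*`. -/
abbrev vL : SheafOfModules.{u} (R g) ⥤ SheafOfModules.{u} Tc.ringCatSheaf :=
  SheafOfModules.pullback (F := Opens.map g) (R := Tc.ringCatSheaf) (𝟙 (R g))

/-- The adjunction over `U₀`. -/
abbrev adj₀ := SheafOfModules.pullbackPushforwardAdjunction (F := G₀ g U₀) (R := O₀ g U₀) (S := R₀ g U₀)
  (𝟙 (R₀ g U₀))

/-- `v^*` over `U₀`. -/
abbrev L₀ : SheafOfModules.{u} (R₀ g U₀) ⥤ SheafOfModules.{u} (O₀ g U₀) :=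
  SheafOfModules.pullback (F := G₀ g U₀) (R := O₀ g U₀) (S := R₀ g U₀) (𝟙 (R₀ g U₀))

/-- Restriction over `U₀`. -/
abbrev rU : SheafOfModules.{u} (R g) ⥤ SheafOfModules.{u} (R₀ g U₀) :=
  SheafOfModules.pushforward (𝟙 ((R g).over U₀))

/-- Restriction over the preimage. -/
abbrev rV : SheafOfModules.{u} Tc.ringCatSheaf ⥤ SheafOfModules.{u} (O₀ g U₀) :=
  SheafOfModules.pushforward (𝟙 (Tc.ringCatSheaf.over (pre g U₀)))

/-- Extension from `U₀`. -/
abbrev sU : SheafOfModules.{u} (R₀ g U₀) ⥤ SheafOfModules.{u} (R g) :=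
  SheafOfModules.pushforward (SheafOfModules.pushforwardOver U₀)

/-- Extension from the preimage. -/
abbrev sV : SheafOfModules.{u} (O₀ g U₀) ⥤ SheafOfModules.{u} Tc.ringCatSheaf :=
  SheafOfModules.pushforward (SheafOfModules.pushforwardOver (pre g U₀))

/-- The restriction adjunction on `U`. -/
abbrev adjU : rU g U₀ ⊣ sU g U₀ := SheafOfModules.overPushforwardOverAdj U₀

/-- The restriction adjunction on the preimage. -/
abbrev adjV : rV g U₀ ⊣ sV g U₀ := SheafOfModules.overPushforwardOverAdj (pre g U₀)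

/-- The exchange of extensions. -/
def θ (Z : SheafOfModules.{u} (O₀ g U₀)) :
    (vP g).obj ((sV g U₀).obj Z) ⟶ (sU g U₀).obj ((v₀ g U₀).obj Z) :=
  (adjU g U₀).homEquiv _ _ ((v₀ g U₀).map ((adjV g U₀).counit.app Z))

theorem bijective_map_thin {V : Tc.Opens} (Z : SheafOfModules.{u} (Tc.ringCatSheaf.over V))
    {A B : Over V} (a : A ⟶ B) (h : B.left ≤ A.left) :
    Function.Bijective fun x : Z.val.obj (op B) => Z.val.map a.op x := by
  let b : B ⟶ A := Over.homMk (homOfLE h) (Subsingleton.elim _ _)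
  have hab : a ≫ b = 𝟙 A := Over.OverMorphism.ext (Subsingleton.elim _ _)
  have hba : b ≫ a = 𝟙 B := Over.OverMorphism.ext (Subsingleton.elim _ _)
  refine Function.bijective_iff_has_inverse.mpr ⟨fun x => Z.val.map b.op x, fun x => ?_, fun x => ?_⟩
  · refine (PresheafOfModules.map_comp_apply Z.val a.op b.op x).symm.trans ?_
    rw [← op_comp, hba, op_id, Z.val.map_id]
    rfl
  · refine (PresheafOfModules.map_comp_apply Z.val b.op a.op x).symm.trans ?_
    rw [← op_comp, hab, op_id, Z.val.map_id]
    rfl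

theorem pre_le_of_star (W : U.Opens) :
    ((Over.star (pre g U₀)).obj (pre g W)).left ≤ ((G₀ g U₀).obj ((Over.star U₀).obj W)).left := by
  intro z hz
  exact ⟨leOfHom (Limits.prod.fst : pre g U₀ ⨯ pre g W ⟶ pre g U₀) hz,
    leOfHom (Limits.prod.snd : pre g U₀ ⨯ pre g W ⟶ pre g W) hz⟩ |>
      fun h => leOfHom (Limits.prod.lift (homOfLE inf_le_left) (homOfLE inf_le_right) : U₀ ⊓ W ⟶ U₀ ⨯ W)
        (show g z ∈ U₀ ⊓ W from h)

theorem isIso_θ (Z : SheafOfModules.{u} (O₀ g U₀)) : IsIso (θ g U₀ Z) := by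
  have hb : ∀ W : U.Opens, Function.Bijective ((θ g U₀ Z).val.app (op W)) := by
    intro W
    let m : (G₀ g U₀).obj ((Over.star U₀).obj W) ⟶ (Over.star (pre g U₀)).obj (pre g W) :=
      (Over.forgetAdjStar (pre g U₀)).unit.app ((G₀ g U₀).obj ((Over.star U₀).obj W)) ≫
        (Over.star (pre g U₀)).map ((Opens.map g).map ((Over.forgetAdjStar U₀).counit.app W))
    have e : ∀ x, (θ g U₀ Z).val.app (op W) x = Z.val.map m.op x := fun x => by
      have : θ g U₀ Z = (adjU g U₀).unit.app ((vP g).obj ((sV g U₀).obj Z)) ≫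
          (sU g U₀).map ((v₀ g U₀).map ((adjV g U₀).counit.app Z)) := (adjU g U₀).homEquiv_unit _ _ _
      rw [this]
      exact (PresheafOfModules.map_comp_apply Z.val
        ((Over.star (pre g U₀)).map ((Opens.map g).map ((Over.forgetAdjStar U₀).counit.app W))).op
        ((Over.forgetAdjStar (pre g U₀)).unit.app ((G₀ g U₀).obj ((Over.star U₀).obj W))).op x).symm
    rw [show ⇑((θ g U₀ Z).val.app (op W)) = fun x => Z.val.map m.op x from funext e]
    exact bijective_map_thin Z m (pre_le_of_star g U₀ W)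
  refine isIso_of_locBij _ (fun W x hx => (hb W).1 (hx.trans (map_zero _).symm)) fun W y =>
    ⟨⊤, GrothendieckTopology.top_mem _ _, fun W' k _ => (hb W').2 _⟩

/-- The comparison `v₀^* (N|U₀) ⟶ (v^* N)|V₀`. -/
def β (N : SheafOfModules.{u} (R g)) : (L₀ g U₀).obj ((rU g U₀).obj N) ⟶ (rV g U₀).obj ((vL g).obj N) :=
  ((adj₀ g U₀).homEquiv _ _).symm ((rU g U₀).map ((adjv g).unit.app N))

theorem isIso_β (N : SheafOfModules.{u} (R g)) : IsIso (β g U₀ N) := by
  rw [isIso_iff_coyoneda_map_bijective]
  intro Z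
  haveI := isIso_θ g U₀ Z
  let e := ((adjV g U₀).homEquiv ((vL g).obj N) Z).trans
    ((((adjv g).homEquiv N ((sV g U₀).obj Z)).trans
      ((asIso (θ g U₀ Z)).homToEquiv (Z := N))).trans
      ((((adjU g U₀).homEquiv N ((v₀ g U₀).obj Z)).symm).trans (((adj₀ g U₀).homEquiv _ Z).symm)))
  have key : ∀ h : (rV g U₀).obj ((vL g).obj N) ⟶ Z, e h = β g U₀ N ≫ h := by
    intro h
    change ((adj₀ g U₀).homEquiv _ _).symm (((adjU g U₀).homEquiv _ _).symm
      (((adjv g).homEquiv _ _ ((adjV g U₀).homEquiv _ _ h)) ≫ θ g U₀ Z)) = _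
    rw [(adjU g U₀).homEquiv_naturality_left_symm]
    simp only [θ, Equiv.symm_apply_apply]
    rw [(adjv g).homEquiv_unit, Functor.map_comp, Category.assoc]
    have h' : (rU g U₀).map ((vP g).map ((adjV g U₀).homEquiv _ _ h)) ≫
        (v₀ g U₀).map ((adjV g U₀).counit.app Z) = (v₀ g U₀).map h := by
      change (v₀ g U₀).map ((rV g U₀).map _) ≫ _ = _
      exact ((v₀ g U₀).map_comp _ _).symm.trans (congrArg (v₀ g U₀).map
        (((adjV g U₀).homEquiv_counit _ _ _).symm.trans (((adjV g U₀).homEquiv _ _).symm_apply_apply h)))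
    exact (congrArg (((adj₀ g U₀).homEquiv _ _).symm) (congrArg ((rU g U₀).map _ ≫ ·) h')).trans
      ((adj₀ g U₀).homEquiv_naturality_right_symm _ h)
  have : (fun h : (rV g U₀).obj ((vL g).obj N) ⟶ Z => β g U₀ N ≫ h) = e := funext fun h => (key h).symm
  show Function.Bijective fun h : (rV g U₀).obj ((vL g).obj N) ⟶ Z => β g U₀ N ≫ h
  rw [this]
  exact e.bijective

theorem rU_unit (N : SheafOfModules.{u} (R g)) :
    (rU g U₀).map ((adjv g).unit.app N) =
      (adj₀ g U₀).unit.app ((rU g U₀).obj N) ≫ (v₀ g U₀).map (β g U₀ N) := by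
  have h := Equiv.apply_symm_apply ((adj₀ g U₀).homEquiv ((rU g U₀).obj N) ((rV g U₀).obj ((vL g).obj N)))
    ((rU g U₀).map ((adjv g).unit.app N))
  rw [Adjunction.homEquiv_unit] at h
  exact h.symm

/-! ### Free modules and presentations -/

/-- The trivial presentation of a free module. -/
def freePresentation {C : Type u} [SmallCategory C] {J : GrothendieckTopology C} {S : Sheaf J RingCat.{u}}
    [HasSheafify J AddCommGrpCat.{u}] [J.WEqualsLocallyBijective AddCommGrpCat.{u}] (I : Type u) :
    (SheafOfModules.free (R := S) I).Presentation :=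
  SheafOfModules.presentationOfIsCokernelFree (ι := PEmpty.{u + 1}) 0 (𝟙 _) zero_comp
    (CokernelCofork.IsColimit.ofπ _ _ (fun f _ => f) (fun f _ => Category.id_comp f)
      (fun f _ m hm => (Category.id_comp m).symm.trans hm))

theorem qc_free (I : Type u) : Qc g U₀ (SheafOfModules.free (R := O₀ g U₀) I) :=
  qc_of_presentation g U₀ (freePresentation I)

/-- The presentation of the inverse image. -/
def pullPresentation {Z : SheafOfModules.{u} (R₀ g U₀)} (P : Z.Presentation) :
    ((L₀ g U₀).obj Z).Presentation :=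
  P.map (L₀ g U₀) (asIso (SheafOfModules.pullbackObjUnitToUnit (F := G₀ g U₀) (R := O₀ g U₀)
    (S := R₀ g U₀) (𝟙 (R₀ g U₀)))).symm

variable (haff : ∀ W : U.Opens, IsAffineOpen W → IsAffineOpen (pre g W))

include haff in
theorem isIso_unit_free (I : Type u) :
    IsIso ((adj₀ g U₀).unit.app (SheafOfModules.free (R := R₀ g U₀) I)) := by
  let e := SheafOfModules.pullbackObjFreeIso (F := G₀ g U₀) (R := O₀ g U₀) (S := R₀ g U₀)
    (𝟙 (R₀ g U₀)) I
  have h : (adj₀ g U₀).unit.app (SheafOfModules.free (R := R₀ g U₀) I) ≫ (v₀ g U₀).map e.hom =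
      cFree g U₀ I := by
    refine Sigma.hom_ext _ _ fun i => ?_
    change SheafOfModules.ιFree i ≫ _ = SheafOfModules.ιFree i ≫ _
    refine (((adj₀ g U₀).unit.naturality_assoc (SheafOfModules.ιFree i) _).trans ?_).trans
      (SheafOfModules.ιFree_mapFree (v₀ g U₀) I (ηu g U₀) i).symm
    dsimp only [Functor.comp_map]
    rw [← Functor.map_comp, SheafOfModules.pullback_map_ιFree_comp_pullbackObjFreeIso_hom,
      Functor.map_comp, ← Category.assoc]
    exact congrArg (· ≫ _) (((adj₀ g U₀).homEquiv_unit _ _ _).symm.trans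
      (SheafOfModules.pullbackPushforwardAdjunction_homEquiv_pullbackObjUnitToUnit _))
  haveI := isIso_cFree g U₀ haff I
  haveI : IsIso ((adj₀ g U₀).unit.app (SheafOfModules.free (R := R₀ g U₀) I) ≫ (v₀ g U₀).map e.hom) :=
    h ▸ inferInstance
  exact IsIso.of_isIso_comp_right _ ((v₀ g U₀).map e.hom)

include haff in
theorem isIso_unit_of_presentation {Z : SheafOfModules.{u} (R₀ g U₀)} (P : Z.Presentation) :
    IsIso ((adj₀ g U₀).unit.app Z) := by
  let adj := adj₀ g U₀
  haveI := isIso_unit_free g U₀ haff P.generators.I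
  haveI := isIso_unit_free g U₀ haff P.relations.I
  let f : SheafOfModules.free P.relations.I ⟶ SheafOfModules.free P.generators.I :=
    (SheafOfModules.freeHomEquiv _).symm P.relations.s ≫ kernel.ι P.generators.π
  have w : f ≫ P.generators.π = 0 := by simp [f]
  have hP : IsColimit (CokernelCofork.ofπ P.generators.π w) := P.isColimit
  have qA : ∀ I : Type u, Qc g U₀ ((L₀ g U₀).obj (SheafOfModules.free (R := R₀ g U₀) I)) := fun I =>
    qc_of_presentation g U₀ (pullPresentation g U₀ (freePresentation I))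
  have hL : IsColimit (CokernelCofork.ofπ ((L₀ g U₀).map P.generators.π)
      (show (L₀ g U₀).map f ≫ (L₀ g U₀).map P.generators.π = 0 by
        rw [← Functor.map_comp, w, Functor.map_zero])) :=
    CokernelCofork.mapIsColimit _ hP (L₀ g U₀)
  have hv := isColimit_v₀ g U₀ haff _ _ _ hL (qA _) (qA _) (qc_of_presentation g U₀ (pullPresentation g U₀ P))
  let u₁ := adj.unit.app (SheafOfModules.free P.generators.I)
  let u₂ := adj.unit.app (SheafOfModules.free P.relations.I)
  haveI : IsIso u₁ := isIso_unit_free g U₀ haff _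
  haveI : IsIso u₂ := isIso_unit_free g U₀ haff _
  let p : SheafOfModules.free (R := R₀ g U₀) P.generators.I ⟶ Z := P.generators.π
  have hn : inv u₂ ≫ f = (v₀ g U₀).map ((L₀ g U₀).map f) ≫ inv u₁ := by
    rw [IsIso.inv_comp_eq, ← Category.assoc, IsIso.eq_comp_inv]
    exact adj.unit.naturality f
  let d : (v₀ g U₀).obj ((L₀ g U₀).obj Z) ⟶ Z :=
    hv.desc (CokernelCofork.ofπ (inv u₁ ≫ p) (by
      rw [← Category.assoc, ← hn, Category.assoc, w, comp_zero]))
  let q := (v₀ g U₀).map ((L₀ g U₀).map p)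
  have hd : q ≫ d = inv u₁ ≫ p := hv.fac _ WalkingParallelPair.one
  haveI : Epi q := epi_of_isColimit_cofork hv
  haveI : Epi p := P.generators.epi
  have hnat : p ≫ adj.unit.app Z = u₁ ≫ q := adj.unit.naturality p
  refine ⟨d, ?_, ?_⟩
  · apply (cancel_epi p).1
    refine (Category.assoc _ _ _).symm.trans ?_
    rw [hnat, Category.assoc, hd, IsIso.hom_inv_id_assoc]
    exact (Category.comp_id p).symm
  · apply (cancel_epi q).1
    refine (Category.assoc _ _ _).symm.trans ?_
    rw [hd, Category.assoc, hnat, IsIso.inv_hom_id_assoc]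
    exact (Category.comp_id q).symm

/-- A presentation over a smaller open. -/
def presentationOfLE (N : SheafOfModules.{u} (R g)) {W : U.Opens} (h : U₀ ≤ W)
    (P : (N.over W).Presentation) : (N.over U₀).Presentation :=
  (P.map (SheafOfModules.overMap (R g) (homOfLE h)) (SheafOfModules.overMapUnitIso (homOfLE h)).symm).ofIsIso
    ((SheafOfModules.overFunctorMap (R g) (homOfLE h)).app N).hom

theorem exists_presentation (N : SheafOfModules.{u} (R g)) [N.IsQuasicoherent] (x : U) :
    ∃ W : U.Opens, IsAffineOpen W ∧ x ∈ W ∧ Nonempty (N.over W).Presentation := by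
  obtain ⟨q⟩ := SheafOfModules.IsQuasicoherent.nonempty_quasicoherentData (M := N)
  have hx : x ∈ ⨆ i, q.X i := ((Opens.coversTop_iff _ q.X).mp q.coversTop) ▸ Opens.mem_top x
  obtain ⟨i, hi⟩ := Opens.mem_iSup.mp hx
  obtain ⟨W, hW, hxW, hle⟩ := exists_isAffineOpen_mem_and_subset hi
  exact ⟨W, hW, hxW, ⟨presentationOfLE g W N hle (q.presentation i)⟩⟩

include haff in
/-- `v^*` preserves quasi-coherence. -/
theorem isQuasicoherent_vL (N : SheafOfModules.{u} (R g)) [N.IsQuasicoherent] :
    ((vL g).obj N).IsQuasicoherent := by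
  choose W hW hxW hP using exists_presentation g N
  have pres : ∀ x : U, (((vL g).obj N).over (pre g (W x))).Presentation := fun x =>
    haveI := isIso_β g (W x) N
    (pullPresentation g (W x) (hP x).some).ofIsIso (β g (W x) N)
  let q : SheafOfModules.QuasicoherentData.{u} (R := Tc.ringCatSheaf) ((vL g).obj N) :=
    { I := (U : Type u)
      X := fun x => pre g (W x)
      coversTop := (Opens.coversTop_iff (Tc : Type u) fun x : U => pre g (W x)).mpr
        (eq_top_iff.mpr fun z _ => Opens.mem_iSup.mpr ⟨g z, hxW (g z)⟩)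
      presentation := pres }
  exact SheafOfModules.QuasicoherentData.isQuasicoherent.{u} (q := q)

include haff in
/-- The unit is an isomorphism. -/
theorem isIso_unit (N : SheafOfModules.{u} (R g)) [N.IsQuasicoherent] : IsIso ((adjv g).unit.app N) := by
  have hb : ∀ (W' : U.Opens) (x : U) (h : W' ≤ (exists_presentation g N x).choose),
      Function.Bijective (((adjv g).unit.app N).val.app (op W')) := by
    intro W' x h
    let W := (exists_presentation g N x).choose
    haveI := isIso_β g W N
    haveI : IsIso ((adj₀ g W).unit.app ((rU g W).obj N)) :=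
      isIso_unit_of_presentation g W haff (exists_presentation g N x).choose_spec.2.2.some
    haveI : IsIso ((rU g W).map ((adjv g).unit.app N)) := by rw [rU_unit]; exact inferInstanceAs (IsIso (_ ≫ _))
    exact ConcreteCategory.bijective_of_isIso
      (((SheafOfModules.toSheaf _).map ((rU g W).map ((adjv g).unit.app N))).hom.app
        (op (Over.mk (homOfLE h))))
  let T : ∀ W : U.Opens, Sieve W := fun W =>
    { arrows := fun W' _ => ∃ x : U, W' ≤ (exists_presentation g N x).choose
      downward_closed := by rintro W' W'' f ⟨x, hx⟩ k; exact ⟨x, (leOfHom k).trans hx⟩ }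
  have hT : ∀ W : U.Opens, T W ∈ Opens.grothendieckTopology U W := fun W z hz =>
    ⟨W ⊓ (exists_presentation g N z).choose, homOfLE inf_le_left, ⟨z, inf_le_right⟩,
      ⟨hz, (exists_presentation g N z).choose_spec.2.1⟩⟩
  refine isIso_of_locBij _ (fun W y hy => eq_zero_of_cover _ y (hT W) fun W' k hk => ?_) fun W y => ?_
  · obtain ⟨x, hx⟩ := hk
    refine (hb W' x hx).1 ?_
    rw [PresheafOfModules.naturality_apply, hy, map_zero, map_zero]
  · exact ⟨T W, hT W, fun W' k ⟨x, hx⟩ => (hb W' x hx).2 _⟩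

/-- A presentation of a quasi-coherent module over an affine open. -/
theorem nonempty_presentation_affine (M : Tc.Modules) [Coh.IsQCoh M] {V : Tc.Opens} (hV : IsAffineOpen V) :
    Nonempty (SheafOfModules.over (R := Tc.ringCatSheaf) M V).Presentation := by
  haveI := hV
  haveI : IsAffine (V : Scheme.{u}) := hV
  haveI := KFlatLib.isQCoh_pullback V.ι M
  haveI : Coh.IsQCoh (M.restrict V.ι) :=
    QCohLib.isQCoh_of_iso ((Scheme.Modules.restrictFunctorIsoPullback V.ι).app M).symm
  let j := (V : Scheme.{u}).isoSpec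
  haveI := KFlatLib.isQCoh_pullback j.inv (M.restrict V.ι)
  haveI : Coh.IsQCoh ((M.restrict V.ι).restrict j.inv) :=
    QCohLib.isQCoh_of_iso ((Scheme.Modules.restrictFunctorIsoPullback j.inv).app (M.restrict V.ι)).symm
  haveI : ((M.restrict V.ι).restrict j.inv).IsQuasicoherent := ‹Coh.IsQCoh _›
  let M' := (M.restrict V.ι).restrict j.inv
  haveI : IsIso M'.fromTildeΓ := @Scheme.Modules.isIso_fromTildeΓ_of_isQuasicoherent _ M' ‹Coh.IsQCoh _›
  let P₁ : M'.Presentation :=
    SheafOfModules.Presentation.ofIsIso.{u, u, u} M'.fromTildeΓ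
      (presentationTilde.{u} _ .univ (by simp) _ (Submodule.span_eq _))
  exact ⟨QCohLib.overPresentation M V
    (SheafOfModules.Presentation.ofIsIso.{u, u, u} ((Scheme.Modules.restrictFunctorId).app (M.restrict V.ι)).hom
      (QCohLib.presentationOfComp (M.restrict V.ι) j.hom j.inv (𝟙 _) j.hom_inv_id
        (Scheme.Modules.presentationRestrict j.hom P₁)))⟩

include haff in
/-- `v_*` preserves quasi-coherence. -/
theorem isQuasicoherent_vP (M : SheafOfModules.{u} Tc.ringCatSheaf) [M.IsQuasicoherent] :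
    ((vP g).obj M).IsQuasicoherent := by
  haveI : Coh.IsQCoh (show Tc.Modules from M) := ‹M.IsQuasicoherent›
  have pres : ∀ W : U.affineOpens, (((vP g).obj M).over W.1).Presentation := by
    intro W
    let P : (M.over (pre g W.1)).Presentation :=
      (nonempty_presentation_affine (show Tc.Modules from M) (haff W.1 W.2)).some
    haveI := isIso_cFree g W.1 haff P.generators.I
    haveI := isIso_cFree g W.1 haff P.relations.I
    let f : SheafOfModules.free P.relations.I ⟶ SheafOfModules.free P.generators.I :=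
      (SheafOfModules.freeHomEquiv _).symm P.relations.s ≫ kernel.ι P.generators.π
    have w : f ≫ P.generators.π = 0 := by simp [f]
    have hv := isColimit_v₀ g W.1 haff f P.generators.π w P.isColimit (qc_free g W.1 _) (qc_free g W.1 _)
      (qc_of_isQCoh g W.1 M)
    refine SheafOfModules.presentationOfIsCokernelFree.{u}
      (cFree g W.1 P.relations.I ≫ (v₀ g W.1).map f ≫ inv (cFree g W.1 P.generators.I))
      (cFree g W.1 P.generators.I ≫ (v₀ g W.1).map P.generators.π) ?_ ?_
    · simp only [Category.assoc, IsIso.inv_hom_id_assoc]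
      rw [← Functor.map_comp, w, Functor.map_zero, comp_zero]
    · exact IsCokernel.ofIso _ hv _ (asIso (cFree g W.1 P.relations.I)).symm
        (asIso (cFree g W.1 P.generators.I)).symm (.refl _) (by simp) (by simp)
  let q : SheafOfModules.QuasicoherentData.{u} (R := R g) ((vP g).obj M) :=
    { I := U.affineOpens
      X := fun W => W.1
      coversTop := (Opens.coversTop_iff (U : Type u) fun W : U.affineOpens => W.1).mpr
        (eq_top_iff.mpr fun z _ => by
          obtain ⟨W, hW, hzW, -⟩ := exists_isAffineOpen_mem_and_subset (show z ∈ (⊤ : U.Opens) from trivial)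
          exact Opens.mem_iSup.mpr ⟨⟨W, hW⟩, hzW⟩)
      presentation := pres }
  exact SheafOfModules.QuasicoherentData.isQuasicoherent.{u} (q := q)

include haff in
/-- The counit is an isomorphism. -/
theorem isIso_counit (M : SheafOfModules.{u} Tc.ringCatSheaf) [M.IsQuasicoherent] :
    IsIso ((adjv g).counit.app M) := by
  haveI := isQuasicoherent_vP g haff M
  haveI := isIso_unit g haff ((vP g).obj M)
  haveI : IsIso ((vP g).map ((adjv g).counit.app M)) :=
    IsIso.of_isIso_fac_left ((adjv g).right_triangle_components M)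
  haveI : Coh.IsQCoh (show Tc.Modules from M) := ‹M.IsQuasicoherent›
  haveI : Coh.IsQCoh (show Tc.Modules from (vL g).obj ((vP g).obj M)) :=
    isQuasicoherent_vL g haff ((vP g).obj M)
  let ε : (show Tc.Modules from (vL g).obj ((vP g).obj M)) ⟶ (show Tc.Modules from M) :=
    (adjv g).counit.app M
  have hbij : ∀ W : U.Opens, Function.Bijective (ε.app (pre g W)) := fun W =>
    ConcreteCategory.bijective_of_isIso
      (((SheafOfModules.toSheaf _).map ((vP g).map ((adjv g).counit.app M))).hom.app (op W))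
  let C : Set Tc.affineOpens := Set.range fun W : U.affineOpens =>
    (⟨pre g W.1, haff W.1 W.2⟩ : Tc.affineOpens)
  have hC : ∀ z : Tc, ∃ V ∈ C, z ∈ V.1 := fun z => by
    obtain ⟨W, hW, hzW, -⟩ := exists_isAffineOpen_mem_and_subset (show g z ∈ (⊤ : U.Opens) from trivial)
    exact ⟨_, ⟨⟨W, hW⟩, rfl⟩, hzW⟩
  haveI : Coh.IsQCoh (kernel ε) := QCohLib.isQCoh_kernel ε
  haveI : Coh.IsQCoh (cokernel ε) := QCohLib.isQCoh_cokernel ε
  haveI : Mono ε := by
    refine Preadditive.mono_of_kernel_zero ?_
    refine CohExtLib.hom_eq_zero_of_cover _ hC ?_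
    rintro _ ⟨W, rfl⟩ y
    refine (hbij W.1).1 ?_
    rw [map_zero]
    exact congrArg (fun φ : kernel ε ⟶ (show Tc.Modules from M) => φ.app (pre g W.1) y) (kernel.condition ε)
  haveI : Epi ε := by
    refine Abelian.epi_of_cokernel_π_eq_zero _ ?_
    refine CohExtLib.hom_eq_zero_of_cover _ hC ?_
    rintro _ ⟨W, rfl⟩ y
    obtain ⟨x, rfl⟩ := (hbij W.1).2 y
    exact congrArg (fun φ : (show Tc.Modules from (vL g).obj ((vP g).obj M)) ⟶ cokernel ε =>
      φ.app (pre g W.1) x) (cokernel.condition ε)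
  haveI : IsIso ε := isIso_of_mono_of_epi ε
  exact ‹IsIso ε›

end CartModLib
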